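import Mathlib.Topology.Sheaves.Functors
import Mathlib.Topology.Sheaves.Sheafify
import Mathlib.Algebra.Category.Grp.FilteredColimits
import Mathlib.Algebra.Category.Grp.Abelian
import Mathlib.CategoryTheory.Sites.LeftExact

/-!
# Stalks of inverse images of abelian sheaves on topological spaces
-/

set_option autoImplicit false
set_option backward.isDefEq.respectTransparency false

universe u

open CategoryTheory CategoryTheory.Limits TopologicalSpace Opposite TopCat

noncomputable section

namespace Groth.Agent.TopPullLib

variable {X Y : TopCat.{u}} (f : X ⟶ Y) (F : TopCat.Sheaf AddCommGrpCat.{u} Y) (x : X)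

/-- The unit of the inverse image / direct image adjunction. -/
abbrev unitApp :
    F ⟶ (TopCat.Sheaf.pushforward AddCommGrpCat.{u} f).obj
      ((TopCat.Sheaf.pullback AddCommGrpCat.{u} f).obj F) :=
  (TopCat.Sheaf.pullbackPushforwardAdjunction AddCommGrpCat.{u} f).unit.app F

/-- Restriction of a section to the inverse image. -/
def pullSection {U : Opens Y} (s : F.obj.obj (op U)) :
    ((TopCat.Sheaf.pullback AddCommGrpCat.{u} f).obj F).obj.obj (op ((Opens.map f).obj U)) :=
  (unitApp f F).hom.app (op U) s

/-- The canonical map from the stalk to the stalk of the inverse image. -/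
def pullStalk :
    TopCat.Presheaf.stalk F.obj (f x) ⟶
      TopCat.Presheaf.stalk ((TopCat.Sheaf.pullback AddCommGrpCat.{u} f).obj F).obj x :=
  (TopCat.Presheaf.stalkFunctor AddCommGrpCat.{u} (f x)).map (unitApp f F).hom ≫
    TopCat.Presheaf.stalkPushforward AddCommGrpCat.{u} f
      ((TopCat.Sheaf.pullback AddCommGrpCat.{u} f).obj F).obj x

lemma pullStalk_germ {U : Opens Y} (hx : f x ∈ U) (s : F.obj.obj (op U)) :
    pullStalk f F x (TopCat.Presheaf.germ F.obj U (f x) hx s) =
      TopCat.Presheaf.germ ((TopCat.Sheaf.pullback AddCommGrpCat.{u} f).obj F).obj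
        ((Opens.map f).obj U) x hx (pullSection f F s) := by
  refine (congrArg (TopCat.Presheaf.stalkPushforward AddCommGrpCat.{u} f
    ((TopCat.Sheaf.pullback AddCommGrpCat.{u} f).obj F).obj x)
    (TopCat.Presheaf.stalkFunctor_map_germ_apply U (f x) hx (unitApp f F).hom s)).trans ?_
  exact congr($(TopCat.Presheaf.stalkPushforward_germ AddCommGrpCat.{u} f
    ((TopCat.Sheaf.pullback AddCommGrpCat.{u} f).obj F).obj U x hx) _)

instance isIso_pullStalk : IsIso (pullStalk f F x) := by
  let A := AddCommGrpCat.{u}
  let J := Opens.grothendieckTopology Y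
  let K := Opens.grothendieckTopology X
  let adj' := Functor.sheafPullbackConstruction.sheafAdjunctionContinuous (Opens.map f) A J K
  let e := Functor.sheafPullbackConstruction.sheafPullbackIso (Opens.map f) A J K
  have hunit : (unitApp f F) ≫ (TopCat.Sheaf.pushforward A f).map (e.hom.app F) = adj'.unit.app F :=
    Adjunction.unit_leftAdjointUniq_hom_app
      (TopCat.Sheaf.pullbackPushforwardAdjunction A f) adj' F
  have hadj : (adj'.unit.app F).hom =
      (TopCat.Presheaf.pullbackPushforwardAdjunction A f).unit.app F.obj ≫
        (TopCat.Presheaf.pushforward A f).map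
          (CategoryTheory.toSheafify K ((TopCat.Presheaf.pullback A f).obj F.obj)) := by
    have := Adjunction.map_restrictFullyFaithful_unit_app
      ((((Opens.map f).op.lanAdjunction A).comp (sheafificationAdjunction K A)))
      (fullyFaithfulSheafToPresheaf J A) (Functor.FullyFaithful.id _) (Iso.refl _) (Iso.refl _)
      (L := Functor.sheafPullbackConstruction.sheafPullback (Opens.map f) A J K)
      (R := (Opens.map f).sheafPushforwardContinuous A J K) F
    refine this.trans ?_
    simp [Adjunction.comp_unit_app]
    rfl
  let P := (TopCat.Presheaf.pullback A f).obj F.obj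
  have hkey : pullStalk f F x ≫ (TopCat.Presheaf.stalkFunctor A x).map (e.hom.app F).hom =
      TopCat.Presheaf.stalkPullbackHom A f F.obj x ≫
        (TopCat.Presheaf.stalkFunctor A x).map (CategoryTheory.toSheafify K P) := by
    refine TopCat.Presheaf.stalk_hom_ext _ (fun U hU => ?_)
    ext s
    have h1 : (unitApp f F).hom.app (op U) ≫ (e.hom.app F).hom.app (op ((Opens.map f).obj U)) =
        ((TopCat.Presheaf.pullbackPushforwardAdjunction A f).unit.app F.obj).app (op U) ≫
          (CategoryTheory.toSheafify K P).app (op ((Opens.map f).obj U)) :=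
      (congrArg (fun φ => φ.hom.app (op U)) hunit).trans (congrArg (fun φ => φ.app (op U)) hadj)
    simp only [ConcreteCategory.comp_apply, pullStalk_germ]
    refine (TopCat.Presheaf.stalkFunctor_map_germ_apply ((Opens.map f).obj U) x hU
      (e.hom.app F).hom (pullSection f F s)).trans ?_
    refine Eq.trans ?_ (congrArg ((TopCat.Presheaf.stalkFunctor A x).map (CategoryTheory.toSheafify K P))
      (ConcreteCategory.congr_hom (TopCat.Presheaf.germ_stalkPullbackHom A f F.obj x U hU) s).symm)
    refine Eq.trans ?_ (TopCat.Presheaf.stalkFunctor_map_germ_apply ((Opens.map f).obj U) x hU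
      (CategoryTheory.toSheafify K P) _).symm
    exact congrArg (ConcreteCategory.hom (TopCat.Presheaf.germ (C := A) _ ((Opens.map f).obj U) x hU))
      (ConcreteCategory.congr_hom h1 s)
  haveI : IsIso ((TopCat.Presheaf.stalkFunctor A x).map (CategoryTheory.toSheafify K P)) :=
    TopCat.Presheaf.stalkFunctor_map_unit_toSheafify_isIso x A P
  haveI : IsIso (TopCat.Presheaf.stalkPullbackHom A f F.obj x) :=
    (TopCat.Presheaf.stalkPullbackIso A f F.obj x).isIso_hom
  haveI : IsIso (e.hom.app F).hom :=
    inferInstanceAs (IsIso ((sheafToPresheaf K A).map (e.hom.app F)))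
  haveI : IsIso (pullStalk f F x ≫ (TopCat.Presheaf.stalkFunctor A x).map (e.hom.app F).hom) := by
    rw [hkey]; infer_instance
  exact IsIso.of_isIso_comp_right _ ((TopCat.Presheaf.stalkFunctor A x).map (e.hom.app F).hom)

theorem pullStalk_bijective : Function.Bijective (pullStalk f F x) :=
  ConcreteCategory.bijective_of_isIso (pullStalk f F x)

end Groth.Agent.TopPullLib
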